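import Cfsg.Agent.FischerThm.Defs

/-!
# Fischer's classification: the cases of the induction, as statements

One field for each separately proved piece. In the recursive pieces the class `lowSet D d` is
known up to isomorphism and `D` is to be identified.
-/

set_option autoImplicit false

open Cfsg

namespace Cfsg.Agent.FischerThm

universe u

/-- The separately proved pieces of Fischer's classification. -/
structure Cases : Prop where
  /-- the local group is solvable -/
  solvable : ∀ {G : Type u} [Group G] [Finite G] {D : Set G}, Hyp D → ∀ {d : G}, d ∈ D →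
    Group.IsSolvable ↥(lowGroup D d) → Bottom D
  /-- the odd core of the local group is not central -/
  oddCore : ∀ {G : Type u} [Group G] [Finite G] {D : Set G}, Hyp D → ∀ {d : G}, d ∈ D →
    ¬ oddCore ↥(lowGroup D d) ≤ Subgroup.center ↥(lowGroup D d) → SymAt D 5
  /-- the 2-core of the local group is not central -/
  twoCore : ∀ {G : Type u} [Group G] [Finite G] {D : Set G}, Hyp D → ∀ {d : G}, d ∈ D →
    ¬ pCore 2 ↥(lowGroup D d) ≤ Subgroup.center ↥(lowGroup D d) →
    (∃ m, 2 ≤ m ∧ SpAt D m) ∨ (∃ n, 4 ≤ n ∧ PSUAt D n)
  /-- symmetric groups below -/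
  sym : ∀ {G : Type u} [Group G] [Finite G] {D : Set G} {d : G} {m : ℕ}, Step D d →
    5 ≤ m → m ≠ 6 → SymAt (lowSet D d) m → SymAt D (m + 2)
  /-- symplectic groups below -/
  symp : ∀ {G : Type u} [Group G] [Finite G] {D : Set G} {d : G} {m : ℕ}, Step D d →
    2 ≤ m → SpAt (lowSet D d) m → OPlusAt D (m + 1) ∨ OMinusAt D m
  /-- orthogonal groups of plus type in dimension at least eight do not occur below -/
  oplus : ∀ {G : Type u} [Group G] [Finite G] {D : Set G} {d : G} {m : ℕ}, Step D d →
    4 ≤ m → OPlusAt (lowSet D d) m → False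
  /-- orthogonal groups of minus type in dimension at least eight do not occur below -/
  ominus : ∀ {G : Type u} [Group G] [Finite G] {D : Set G} {d : G} {m : ℕ}, Step D d →
    3 ≤ m → OMinusAt (lowSet D d) m → False
  /-- reflection groups below -/
  refl : ∀ {G : Type u} [Group G] [Finite G] {D : Set G} {d : G} {n : ℕ}, Step D d →
    5 ≤ n → ReflAt (lowSet D d) n → ReflAt D (n + 1)
  /-- `PSU(5, 2)` does not occur below -/
  psuFive : ∀ {G : Type u} [Group G] [Finite G] {D : Set G} {d : G}, Step D d →
    PSUAt (lowSet D d) 5 → False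
  /-- `PSU(6, 2)` below gives type M(22) -/
  psuSix : ∀ {G : Type u} [Group G] [Finite G] {D : Set G} {d : G}, Step D d →
    PSUAt (lowSet D d) 6 → IsOfTypeM22 G D
  /-- larger unitary groups do not occur below -/
  psuLarge : ∀ {G : Type u} [Group G] [Finite G] {D : Set G} {d : G} {n : ℕ}, Step D d →
    7 ≤ n → PSUAt (lowSet D d) n → False
  /-- type M(22) below gives type M(23) -/
  mTwentyTwo : ∀ {G : Type u} [Group G] [Finite G] {D : Set G} {d : G}, Step D d →
    IsOfTypeM22 (LowBar D d) (lowSet D d) → IsOfTypeM23 G D
  /-- type M(23) below gives type M(24) -/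
  mTwentyThree : ∀ {G : Type u} [Group G] [Finite G] {D : Set G} {d : G}, Step D d →
    IsOfTypeM23 (LowBar D d) (lowSet D d) → IsOfTypeM24 G D
  /-- type M(24) does not occur below -/
  mTwentyFour : ∀ {G : Type u} [Group G] [Finite G] {D : Set G} {d : G}, Step D d →
    IsOfTypeM24 (LowBar D d) (lowSet D d) → False
  /-- `PSU(4, 2)` is a reflection group in dimension five -/
  psuFourRefl : ∀ {G : Type u} [Group G] [Finite G] {D : Set G}, Hyp D → PSUAt D 4 → ReflAt D 5
  /-- the six-dimensional orthogonal group of plus type is symmetric of degree eight -/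
  oplusThreeSym : ∀ {G : Type u} [Group G] [Finite G] {D : Set G}, Hyp D →
    OPlusAt D 3 → SymAt D 8
  /-- the six-dimensional orthogonal group of minus type is a reflection group in dimension five -/
  ominusTwoRefl : ∀ {G : Type u} [Group G] [Finite G] {D : Set G}, Hyp D →
    OMinusAt D 2 → ReflAt D 5

end Cfsg.Agent.FischerThm
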