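import Cfsg.Prelude.Def_FischerSpaces
import Cfsg.Agent.ThreeTrans.Layers

/-!
# Fischer's classification: vocabulary

`SymAt D n`, `SpAt D m`, ... say that a class `D` goes to a standard class under an isomorphism.
`Hyp D` is the hypothesis carried through the induction, `Step D d` adds that the group generated by
the other members commuting with `d` is non-solvable with central 2-core and 3-core, and
`lowSet D d` is the image of those members in that group modulo its centre.
-/

set_option autoImplicit false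

open scoped MatrixGroups
open Cfsg
open Cfsg.Agent.ThreeTrans (dperp lowImage)

namespace Cfsg.Agent.FischerThm

section Types

variable {G : Type*} [Group G]

/-- `D` is the class of transpositions of the symmetric group of degree `n`. -/
def SymAt (D : Set G) (n : ℕ) : Prop :=
  ∃ e : G ≃* Equiv.Perm (Fin n), e '' D = {σ : Equiv.Perm (Fin n) | σ.IsSwap}

/-- `D` is the class of transvections of `Sp(2m, 2)`. -/
def SpAt (D : Set G) (m : ℕ) : Prop :=
  ∃ e : G ≃* Matrix.symplecticGroup (Fin m) (ZMod 2),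
    e '' D = {g : Matrix.symplecticGroup (Fin m) (ZMod 2) |
      ((g : Matrix (Fin m ⊕ Fin m) (Fin m ⊕ Fin m) (ZMod 2)) - 1).rank = 1}

/-- `D` is the class of transvection images of `PSU(n, 2)`. -/
def PSUAt (D : Set G) (n : ℕ) : Prop :=
  ∃ (F : Type) (_ : Field F) (_ : Fintype F), Fintype.card F = 4 ∧ ∃ e : G ≃* Cfsg.PSU n F 2,
    e '' D = (QuotientGroup.mk : ↥(Cfsg.SU n F 2) → Cfsg.PSU n F 2) ''
      {g : ↥(Cfsg.SU n F 2) |
        (((g : Matrix.SpecialLinearGroup (Fin n) F) : Matrix (Fin n) (Fin n) F) - 1).rank = 1}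

/-- `D` is the class of transvections of the orthogonal group of plus type in dimension `2m`. -/
def OPlusAt (D : Set G) (m : ℕ) : Prop :=
  ∃ e : G ≃* ↥(Cfsg.isometryGroup (ZMod 2) (Cfsg.quadFormPlus m (ZMod 2))),
    e '' D = {g : ↥(Cfsg.isometryGroup (ZMod 2) (Cfsg.quadFormPlus m (ZMod 2))) |
      (((g : GL (Fin m ⊕ Fin m) (ZMod 2)) : Matrix (Fin m ⊕ Fin m) (Fin m ⊕ Fin m) (ZMod 2))
        - 1).rank = 1}

/-- `D` is the class of transvections of the orthogonal group of minus type in dimension `2m + 2`. -/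
def OMinusAt (D : Set G) (m : ℕ) : Prop :=
  ∃ e : G ≃* ↥(Cfsg.isometryGroup (ZMod 2) (Cfsg.quadFormMinus m (ZMod 2) 1 1)),
    e '' D = {g : ↥(Cfsg.isometryGroup (ZMod 2) (Cfsg.quadFormMinus m (ZMod 2) 1 1)) |
      (((g : GL ((Fin m ⊕ Fin m) ⊕ Fin 2) (ZMod 2)) :
        Matrix ((Fin m ⊕ Fin m) ⊕ Fin 2) ((Fin m ⊕ Fin m) ⊕ Fin 2) (ZMod 2)) - 1).rank = 1}

/-- `D` is a class of reflections of an `n`-dimensional orthogonal space over the field with three
elements, modulo the centre of the group they generate. -/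
def ReflAt (D : Set G) (n : ℕ) : Prop :=
  ∃ Q : QuadraticForm (ZMod 3) (Fin n → ZMod 3), (QuadraticMap.polarBilin Q).Nondegenerate ∧
    ∃ c : ZMod 3, c ≠ 0 ∧ ∃ e : G ≃* ↥(Cfsg.reflectionSubgroup (⇑Q) c) ⧸
        Subgroup.center ↥(Cfsg.reflectionSubgroup (⇑Q) c),
      e '' D = (QuotientGroup.mk : ↥(Cfsg.reflectionSubgroup (⇑Q) c) → _) ''
        {g : ↥(Cfsg.reflectionSubgroup (⇑Q) c) |
          (g : ↥(Cfsg.isometryGroup (ZMod 3) (⇑Q))) ∈ Cfsg.reflectionsOfNorm (⇑Q) c}

/-- The outcome when the local cores are central and the local group is not solvable. -/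
def CentralOut (D : Set G) : Prop :=
  (∃ n, 7 ≤ n ∧ SymAt D n) ∨ (∃ m, 3 ≤ m ∧ OPlusAt D m) ∨ (∃ m, 2 ≤ m ∧ OMinusAt D m) ∨
    (∃ n, 5 ≤ n ∧ ReflAt D n) ∨ IsOfTypeM22 G D ∨ IsOfTypeM23 G D ∨ IsOfTypeM24 G D

/-- The outcome when the local group is solvable or has a core that is not central. -/
def Bottom (D : Set G) : Prop :=
  SymAt D 5 ∨ (∃ m, 2 ≤ m ∧ SpAt D m) ∨ (∃ n, 4 ≤ n ∧ PSUAt D n)

/-- All outcomes. -/
def Known (D : Set G) : Prop := Bottom D ∨ CentralOut D

end Types

section Local

variable {G : Type*} [Group G]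

/-- The group generated by the other members commuting with `d`. -/
abbrev lowGroup (D : Set G) (d : G) : Subgroup G := Subgroup.closure (dperp D d)

/-- That group modulo its centre. -/
abbrev LowBar (D : Set G) (d : G) : Type _ := lowGroup D d ⧸ Subgroup.center (lowGroup D d)

/-- The image of the other members commuting with `d`. -/
def lowSet (D : Set G) (d : G) : Set (LowBar D d) := lowImage (lowGroup D d) (dperp D d)

/-- The members commuting with both `d` and `c`, other than them. -/
def common (D : Set G) (d c : G) : Set G := dperp D d ∩ dperp D c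

/-- The members not commuting with `d`. -/
def aside (D : Set G) (d : G) : Set G := {c | c ∈ D ∧ ¬ Commute d c}

theorem mem_common {D : Set G} {d c x : G} :
    x ∈ common D d c ↔ x ∈ dperp D d ∧ x ∈ dperp D c := Iff.rfl

/-- The hypothesis of the induction. -/
structure Hyp (D : Set G) : Prop where
  cls : IsThreeTranspositionClass D
  sol : ∀ N : Subgroup G, N.Normal → Group.IsSolvable ↥N → N = ⊥
  perf : ⁅commutator G, commutator G⁆ = commutator G

/-- The recursive case at the member `d`. -/
structure Step (D : Set G) (d : G) : Prop extends Hyp D where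
  mem : d ∈ D
  nonsolv : ¬ Group.IsSolvable ↥(lowGroup D d)
  core2 : pCore 2 ↥(lowGroup D d) ≤ Subgroup.center ↥(lowGroup D d)
  core3 : pCore 3 ↥(lowGroup D d) ≤ Subgroup.center ↥(lowGroup D d)

/-- `φ` carries the members commuting with `d` onto `E`, keeping commutation and conjugation. -/
structure Chart (D : Set G) (d : G) {K : Type*} [Group K] (E : Set K) (φ : G → K) : Prop where
  bij : Set.BijOn φ (dperp D d) E
  comm : ∀ x ∈ dperp D d, ∀ y ∈ dperp D d, Commute (φ x) (φ y) ↔ Commute x y
  conj : ∀ x ∈ dperp D d, ∀ y ∈ dperp D d, φ (x * y * x) = φ x * φ y * φ x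

end Local

end Cfsg.Agent.FischerThm
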