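import Cfsg.Agent.FischerThm.Induction
import Cfsg.Agent.Layer.Components

/-!
# From primitivity or a simple derived group to the hypothesis of the induction
-/

set_option autoImplicit false

open Cfsg
open scoped commutatorElement
open Cfsg.Agent.ThreeTrans (dperp)

namespace Cfsg.Agent.FischerThm

universe u

variable {G : Type u} [Group G] [Finite G] {D : Set G} {d : G}

omit [Finite G] in
/-- A solvable normal subgroup meeting the derived group trivially is trivial. -/
theorem eq_bot_of_inf_commutator (hZ : Subgroup.center G = ⊥) {N : Subgroup G} (hN : N.Normal)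
    (h : N ⊓ commutator G = ⊥) : N = ⊥ := by
  rw [eq_bot_iff, ← hZ]
  intro n hn
  rw [Subgroup.mem_center_iff]
  intro g
  have h1 : ⁅g, n⁆ ∈ N ⊓ commutator G := by
    refine Subgroup.mem_inf.2
      ⟨?_, Subgroup.commutator_mem_commutator (Subgroup.mem_top g) (Subgroup.mem_top n)⟩
    rw [commutatorElement_def]
    exact N.mul_mem (hN.conj_mem n hn g) (N.inv_mem hn)
  rw [h, Subgroup.mem_bot, commutatorElement_eq_one_iff_mul_comm] at h1
  exact h1

/-- Primitivity gives the hypothesis. -/
theorem hyp_of_primitive (hD : IsThreeTranspositionGroup D) (hprim : IsPrimitiveUnderConj D)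
    (hZ : Subgroup.center G = ⊥) (hw : ∃ a ∈ D, ∃ b ∈ D, a ≠ b ∧ Commute a b) : Hyp D := by
  have hcls := ThreeTrans.class_of_primitive hD hprim
  obtain ⟨h2, h3, hconn⟩ := ThreeTrans.primitive_facts hD hprim hw
  obtain ⟨L, hLn, hL, -, -⟩ := ThreeTrans.exists_quasisimple hcls hprim.2.1 h2 h3
  have hidx := ThreeTrans.index_le_two hcls hprim.2.1 h2 h3 hL hconn
  refine ⟨hcls, fun N hN hs => ?_, ThreeTrans.perfect_derived hL hidx⟩
  refine eq_bot_of_inf_commutator hZ hN (le_bot_iff.1 ?_)
  rw [← hZ]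
  exact ThreeTrans.solvable_le_center hcls hprim.2.1 h2 h3 hL hidx inferInstance inf_le_right
    (Core.isSolvable_mono hs inf_le_left)

/-- A simple non-abelian derived group gives the hypothesis. -/
theorem hyp_of_simple (hD : IsThreeTranspositionClass D) (hZ : Subgroup.center G = ⊥)
    (hs : IsSimpleGroup (commutator G)) (hna : ∃ x y : commutator G, x * y ≠ y * x) : Hyp D := by
  obtain ⟨x, y, hxy⟩ := hna
  have hns : ¬ Group.IsSolvable (commutator G) := fun h =>
    hxy ((IsSimpleGroup.comm_iff_isSolvable (G := commutator G)).2 h x y)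
  refine ⟨hD, fun N hN hsol => ?_, ?_⟩
  · refine eq_bot_of_inf_commutator hZ hN ?_
    rcases IsSimpleGroup.eq_bot_or_eq_top_of_normal (N.subgroupOf (commutator G)) inferInstance
      with h | h
    · exact (Subgroup.subgroupOf_eq_bot.1 h).eq_bot
    · exact absurd (Core.isSolvable_mono hsol (Subgroup.subgroupOf_eq_top.1 h)) hns
  · refine le_antisymm (Subgroup.commutator_le_self _) ?_
    rw [← Subgroup.map_subtype_commutator]
    rcases IsSimpleGroup.eq_bot_or_eq_top_of_normal (commutator (commutator G)) inferInstance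
      with h | h
    · exfalso
      refine hns (Group.isSolvable_of_comm fun p q => ?_)
      refine commutatorElement_eq_one_iff_mul_comm.1 ?_
      have hm := Subgroup.commutator_mem_commutator (Subgroup.mem_top p) (Subgroup.mem_top q)
      rwa [← commutator_def, h, Subgroup.mem_bot] at hm
    · rw [h, ← MonoidHom.range_eq_map, Subgroup.range_subtype]

/-- With central cores the local group of a primitive class is not solvable. -/
theorem step_of_cores (H : Hyp D) (hd : d ∈ D)
    (h2 : pCore 2 ↥(lowGroup D d) ≤ Subgroup.center ↥(lowGroup D d))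
    (h3 : pCore 3 ↥(lowGroup D d) ≤ Subgroup.center ↥(lowGroup D d)) : Step D d := by
  refine ⟨H, hd, fun hs => ?_, h2, h3⟩
  obtain ⟨b, hb⟩ := H.exists_dperp hd
  by_cases htwo : ∃ p ∈ dperp D d, ∃ q ∈ dperp D d, p ≠ q
  · have hT := set_mono H.set (T := dperp D d) fun _ h => h.1
    have hg := group_inClosure hT (dperp_closed H.group d)
    obtain ⟨p, hp, q, hq, hpq⟩ := htwo
    have hC : IsThreeTranspositionClass (inClosure (dperp D d)) := by
      refine ⟨hg.1, ⟨⟨p, Subgroup.subset_closure hp⟩, hp, Set.Subset.antisymm ?_ ?_⟩, hg.2.2⟩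
      · intro u hu
        obtain ⟨k, hk, hku⟩ := H.exists_conj_partners hd hp hu
        exact isConj_iff.2 ⟨⟨k, hk⟩, Subtype.ext (by simpa using hku)⟩
      · intro u hu
        obtain ⟨k, rfl⟩ := isConj_iff.1 hu
        exact hg.2.1 k _ hp
    obtain ⟨L, -, hL, -, -⟩ := ThreeTrans.exists_quasisimple hC
      ⟨⟨p, Subgroup.subset_closure hp⟩, hp, ⟨q, Subgroup.subset_closure hq⟩, hq,
        fun h => hpq (congrArg Subtype.val h)⟩ h2 h3
    exact Layer.qs_not_isSolvable hL inferInstance
  -- a single partner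
  push Not at htwo
  obtain ⟨g, hg⟩ := ThreeTrans.class_isConj H.cls hd hb.1
  have hbd : dperp D b = {d} := by
    refine Set.Subset.antisymm (fun e he => ?_) (Set.singleton_subset_iff.2 (mem_dperp_swap hd hb))
    obtain ⟨e', he', rfl⟩ := (bijOn_conj_dperp H.group.2.1 g d).surjOn (hg.symm ▸ he)
    obtain ⟨d', hd', hd''⟩ := (bijOn_conj_dperp H.group.2.1 g d).surjOn
      (hg.symm ▸ mem_dperp_swap hd hb)
    show g * e' * g⁻¹ = d
    rw [← hd'', htwo e' he' d' hd']
  have hall : ∀ e ∈ D, e = d ∨ e = b := by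
    intro e he
    have hmem := H.connected d hd e he
    clear he
    induction hmem with
    | refl => exact Or.inl rfl
    | @tail u v _ huv ih =>
      rcases ih with rfl | rfl
      · by_cases hvd : v = u
        · exact Or.inl hvd
        · exact Or.inr (htwo v ⟨huv.1.2, hvd, huv.2⟩ b hb)
      · by_cases hvb : v = u
        · exact Or.inr hvb
        · left
          have hv : v ∈ dperp D u := ⟨huv.1.2, hvb, huv.2⟩
          rwa [hbd, Set.mem_singleton_iff] at hv
  have hz : d ∈ Subgroup.center G := ThreeTrans.mem_center_of_commute H.cls.2.2 fun e he => by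
    rcases hall e he with rfl | rfl
    exacts [Commute.refl _, hb.2.2]
  rw [H.center_eq_bot, Subgroup.mem_bot] at hz
  exact ThreeTrans.ne_one H.set hd hz

/-- The primitive classification, given the cases. -/
theorem primitive_classification (C : Cases.{u}) (hD : IsThreeTranspositionGroup D)
    (hprim : IsPrimitiveUnderConj D) (hZ : Subgroup.center G = ⊥) (hd : d ∈ D)
    (hw : ∃ b ∈ D, b ≠ d ∧ Commute d b)
    (h3 : pCore 3 ↥(lowGroup D d) ≤ Subgroup.center ↥(lowGroup D d))
    (h2 : pCore 2 ↥(lowGroup D d) ≤ Subgroup.center ↥(lowGroup D d)) : CentralOut D := by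
  obtain ⟨b, hb, hne, hdb⟩ := hw
  exact central C (step_of_cores (hyp_of_primitive hD hprim hZ ⟨d, hd, b, hb, hne.symm, hdb⟩)
    hd h2 h3)

theorem swap_three_order : ∀ i j k l : Fin 3, (Equiv.swap i j * Equiv.swap k l) ^ 3 = 1 ∨
    (Equiv.swap i j * Equiv.swap k l) ^ 2 = 1 := by
  decide +kernel

theorem swap_three_third : ∀ p q r : Equiv.Perm (Fin 3), p * p = 1 → p ≠ 1 → q * q = 1 → q ≠ 1 →
    r * r = 1 → r ≠ 1 → p ≠ q → r ≠ p → r ≠ q → r = p * q * p := by
  decide +kernel

theorem swap_three_exists : ∀ σ : Equiv.Perm (Fin 3), σ * σ = 1 → σ ≠ 1 →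
    ∃ i j, i ≠ j ∧ σ = Equiv.swap i j := by
  decide +kernel

theorem swap_three_card :
    (Finset.univ.filter fun σ : Equiv.Perm (Fin 3) => σ * σ = 1 ∧ σ ≠ 1).card = 3 := by
  decide +kernel

/-- A class of size three with trivial centre is that of the symmetric group of degree three. -/
theorem symAt_three_of_card (hD : IsThreeTranspositionGroup D) (hZ : Subgroup.center G = ⊥)
    (hall : ∀ x ∈ D, ∀ y ∈ D, x ≠ y → x * y * x ≠ x ∧ x * y * x ≠ y) (hcard : D.ncard = 3) :
    SymAt D 3 := by
  classical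
  set E : Set (Equiv.Perm (Fin 3)) := {σ | σ.IsSwap} with hEdef
  have hE : IsThreeTranspositionGroup E := by
    refine ⟨⟨?_, ?_⟩, ?_, Equiv.Perm.closure_isSwap⟩
    · rintro σ ⟨i, j, hij, rfl⟩
      exact orderOf_eq_prime (by rw [sq, Equiv.swap_mul_self]) (fun h => hij
        (Equiv.swap_eq_one_iff.1 h))
    · rintro σ ⟨i, j, -, rfl⟩ τ ⟨k, l, -, rfl⟩
      exact (swap_three_order i j k l).symm
    · rintro g σ ⟨i, j, hij, rfl⟩
      exact ⟨g i, g j, g.injective.ne hij, by rw [Equiv.mul_swap_eq_swap_mul, mul_inv_cancel_right]⟩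
  have hsw : ∀ σ, σ ∈ E ↔ σ * σ = 1 ∧ σ ≠ 1 := fun σ => by
    refine ⟨?_, fun h => swap_three_exists σ h.1 h.2⟩
    rintro ⟨i, j, hij, rfl⟩
    exact ⟨Equiv.swap_mul_self i j, fun h => hij (Equiv.swap_eq_one_iff.1 h)⟩
  have hZE : Subgroup.center (Equiv.Perm (Fin 3)) = ⊥ := by
    rw [eq_bot_iff]
    intro σ hσ
    have : ∀ σ : Equiv.Perm (Fin 3), (∀ τ : Equiv.Perm (Fin 3), τ * σ = σ * τ) → σ = 1 := by
      decide +kernel
    exact Subgroup.mem_bot.2 (this σ (Subgroup.mem_center_iff.1 hσ))
  have hEc : E.ncard = 3 := by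
    refine Eq.trans ?_ swap_three_card
    rw [← Set.ncard_coe_finset]
    congr 1
    exact Set.ext fun σ => by simp [hsw σ]
  obtain ⟨τ⟩ := Finite.card_eq.1
    (show Nat.card D = Nat.card E by
      rw [Nat.card_coe_set_eq, Nat.card_coe_set_eq, hcard, hEc])
  let σ : G → Equiv.Perm (Fin 3) := fun x => if h : x ∈ D then (τ ⟨x, h⟩ : Equiv.Perm (Fin 3)) else 1
  have hσ : ∀ (x : G) (hx : x ∈ D), σ x = τ ⟨x, hx⟩ := fun x hx => dif_pos hx
  have hbij : Set.BijOn σ D E := by
    refine ⟨fun x hx => by rw [hσ x hx]; exact (τ _).2, fun x hx y hy h => ?_, fun e he => ?_⟩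
    · rw [hσ x hx, hσ y hy] at h
      exact congrArg Subtype.val (τ.injective (Subtype.ext h))
    · exact ⟨τ.symm ⟨e, he⟩, (τ.symm ⟨e, he⟩).2, by rw [hσ _ (τ.symm ⟨e, he⟩).2]; simp⟩
  have hthird : ∀ p q r : Equiv.Perm (Fin 3), p ∈ E → q ∈ E → r ∈ E → p ≠ q → r ≠ p →
      r ≠ q → r = p * q * p := fun p q r hp hq hr =>
    swap_three_third p q r ((hsw p).1 hp).1 ((hsw p).1 hp).2 ((hsw q).1 hq).1 ((hsw q).1 hq).2
      ((hsw r).1 hr).1 ((hsw r).1 hr).2
  obtain ⟨e, he, -⟩ := equiv_of_bij hD hZ hE hZE hbij fun x hx y hy => by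
    rcases eq_or_ne x y with rfl | hne
    · have h1 := ThreeTrans.mul_self hD.1 hx
      have h2 := ThreeTrans.mul_self hE.1 (hbij.mapsTo hx)
      rw [h1, one_mul, h2, one_mul]
    have hz := ThreeTrans.conj_mem hD.1 hD.2.1 hx hy
    exact hthird _ _ _ (hbij.mapsTo hx) (hbij.mapsTo hy) (hbij.mapsTo hz)
      (fun h => hne (hbij.injOn hx hy h)) (fun h => (hall x hx y hy hne).1 (hbij.injOn hz hx h))
      (fun h => (hall x hx y hy hne).2 (hbij.injOn hz hy h))
  exact ⟨e, he⟩

/-- An abelian simple derived group gives the symmetric group of degree three. -/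
theorem symAt_three (hD : IsThreeTranspositionClass D) (hZ : Subgroup.center G = ⊥)
    (hs : IsSimpleGroup (commutator G)) (hab : ∀ x y : commutator G, x * y = y * x) :
    SymAt D 3 := by
  classical
  have hT := hD.1
  obtain ⟨d, hd, -⟩ := id hD.2.1
  let : CommGroup (commutator G) :=
    { (inferInstance : Group (commutator G)) with mul_comm := hab }
  obtain ⟨e, he, hde⟩ : ∃ e ∈ D, ¬ Commute d e := by
    by_contra hcon
    push Not at hcon
    have hz : d ∈ Subgroup.center G := ThreeTrans.mem_center_of_commute hD.2.2 hcon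
    rw [hZ, Subgroup.mem_bot] at hz
    exact ThreeTrans.ne_one hT hd hz
  set u : commutator G := ⟨d * e, ThreeTrans.mul_mem_commutator hD hd he⟩
  have hu : orderOf u = 3 := by
    rw [← Subgroup.orderOf_coe]
    exact ThreeTrans.orderOf_mul_of_not_commute hT hd he hde
  have hz : Subgroup.zpowers u = ⊤ := by
    refine (IsSimpleGroup.eq_bot_or_eq_top_of_normal (Subgroup.zpowers u) inferInstance).resolve_left
      fun h => ?_
    rw [Subgroup.zpowers_eq_bot.1 h, orderOf_one] at hu
    omega
  have hcard : Nat.card (commutator G) = 3 := by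
    rw [← hu, ← Nat.card_zpowers, hz, Subgroup.card_top]
  have hsub : D ⊆ (fun c : G => d * c) '' (commutator G : Set G) := fun x hx =>
    ⟨d * x, ThreeTrans.mul_mem_commutator hD hd hx, ThreeTrans.mul_self_mul hT hd x⟩
  have hle : D.ncard ≤ 3 := by
    refine (Set.ncard_le_ncard hsub (Set.toFinite _)).trans ((Set.ncard_image_le (Set.toFinite _)).trans ?_)
    rw [← hcard, ← Nat.card_coe_set_eq]
    rfl
  -- two different members never commute
  have hnc : ∀ x ∈ D, ∀ y ∈ D, x ≠ y → ¬ Commute x y := by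
    intro x hx y hy hne hxy
    have h2 : orderOf (⟨x * y, ThreeTrans.mul_mem_commutator hD hx hy⟩ : commutator G) = 2 := by
      rw [← Subgroup.orderOf_coe]
      exact ThreeTrans.orderOf_mul_of_commute hT hx hy hxy hne
    have h3 := orderOf_dvd_natCard (⟨x * y, ThreeTrans.mul_mem_commutator hD hx hy⟩ : commutator G)
    rw [h2, hcard] at h3
    norm_num at h3
  have hall : ∀ x ∈ D, ∀ y ∈ D, x ≠ y → x * y * x ≠ x ∧ x * y * x ≠ y := by
    intro x hx y hy hne
    constructor
    · intro h
      refine hne ?_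
      have h1 : x * (x * y * x) * x = x * x * x := by rw [h]
      simp only [mul_assoc, ThreeTrans.mul_self hT hx, mul_one,
        ThreeTrans.mul_self_mul hT hx] at h1
      exact (one_mul x).symm.trans h1.symm
    · intro h
      refine hnc x hx y hy hne ?_
      show x * y = y * x
      conv_rhs => rw [← h]
      rw [ThreeTrans.mul_mul_self hT hx]
  refine symAt_three_of_card (ThreeTrans.class_toGroup hD) hZ hall (le_antisymm hle ?_)
  have hne : d ≠ e := fun h => hde (h ▸ Commute.refl d)
  have hf := ThreeTrans.conj_mem hT (ThreeTrans.class_conj hD) hd he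
  calc 3 = ({d, e, d * e * d} : Set G).ncard :=
        (Set.ncard_eq_three.2 ⟨d, e, d * e * d, hne, (hall d hd e he hne).1.symm,
          (hall d hd e he hne).2.symm, rfl⟩).symm
    _ ≤ D.ncard := Set.ncard_le_ncard (by
        rintro z (rfl | rfl | rfl)
        exacts [hd, he, hf]) (Set.toFinite _)

/-- Fischer's theorem, given the cases. -/
theorem fischer (C : Cases.{u}) (hD : IsThreeTranspositionClass D) (hZ : Subgroup.center G = ⊥)
    (hs : IsSimpleGroup (commutator G)) : SymAt D 3 ∨ Known D := by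
  by_cases hab : ∀ x y : commutator G, x * y = y * x
  · exact Or.inl (symAt_three hD hZ hs hab)
  · push Not at hab
    exact Or.inr (known C (hyp_of_simple hD hZ hs hab))

end Cfsg.Agent.FischerThm
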