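import Cfsg.Agent.FischerThm.Cases
import Cfsg.Agent.FischerThm.Local.Recognize

/-!
# The induction on the group order
-/

set_option autoImplicit false

open Cfsg

namespace Cfsg.Agent.FischerThm

universe u

variable {G : Type u} [Group G] [Finite G] {D : Set G} {d : G}

/-- The recursive case, given the class of the smaller group. -/
theorem central_of_known (C : Cases.{u}) (S : Step D d) (h : Known (lowSet D d)) : CentralOut D := by
  have hlow := S.low
  have hsym : ∀ {m}, 5 ≤ m → m ≠ 6 → SymAt (lowSet D d) m → CentralOut D := fun hm hm6 h =>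
    Or.inl ⟨_, by omega, C.sym S hm hm6 h⟩
  have hrefl : ∀ {n}, 5 ≤ n → ReflAt (lowSet D d) n → CentralOut D := fun hn h =>
    Or.inr (Or.inr (Or.inr (Or.inl ⟨_, by omega, C.refl S hn h⟩)))
  rcases h with (h | ⟨m, hm, h⟩ | ⟨n, hn, h⟩) | (⟨n, hn, h⟩ | ⟨m, hm, h⟩ | ⟨m, hm, h⟩ | ⟨n, hn, h⟩ |
    h | h | h)
  · exact hsym le_rfl (by omega) h
  · rcases C.symp S hm h with h | h
    · exact Or.inr (Or.inl ⟨_, by omega, h⟩)
    · exact Or.inr (Or.inr (Or.inl ⟨_, hm, h⟩))
  · rcases (show n = 4 ∨ n = 5 ∨ n = 6 ∨ 7 ≤ n by omega) with rfl | rfl | rfl | hn'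
    · exact hrefl le_rfl (C.psuFourRefl hlow h)
    · exact (C.psuFive S h).elim
    · exact Or.inr (Or.inr (Or.inr (Or.inr (Or.inl (C.psuSix S h)))))
    · exact (C.psuLarge S hn' h).elim
  · exact hsym (by omega) (by omega) h
  · rcases (show m = 3 ∨ 4 ≤ m by omega) with rfl | hm'
    · exact hsym (by omega) (by omega) (C.oplusThreeSym hlow h)
    · exact (C.oplus S hm' h).elim
  · rcases (show m = 2 ∨ 3 ≤ m by omega) with rfl | hm'
    · exact hrefl le_rfl (C.ominusTwoRefl hlow h)
    · exact (C.ominus S hm' h).elim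
  · exact hrefl hn h
  · exact Or.inr (Or.inr (Or.inr (Or.inr (Or.inr (Or.inl (C.mTwentyTwo S h))))))
  · exact Or.inr (Or.inr (Or.inr (Or.inr (Or.inr (Or.inr (C.mTwentyThree S h))))))
  · exact (C.mTwentyFour S h).elim

/-- The smaller group is smaller. -/
theorem card_lowBar_lt (H : Hyp D) (hd : d ∈ D) : Nat.card (LowBar D d) < Nat.card G := by
  refine lt_of_le_of_lt ((Subgroup.center (lowGroup D d)).card_quotient_dvd_card |>
    Nat.le_of_dvd Nat.card_pos) ?_
  refine lt_of_le_of_ne (Nat.le_of_dvd Nat.card_pos (lowGroup D d).card_subgroup_dvd_card)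
    fun he => ?_
  have htop : lowGroup D d = ⊤ := Subgroup.eq_top_of_card_eq _ he
  have hz : d ∈ Subgroup.center G := Subgroup.mem_center_iff.2 fun g =>
    (ThreeTrans.commute_of_mem_H (H := lowGroup D d) rfl (htop ▸ Subgroup.mem_top g)).eq.symm
  rw [H.center_eq_bot, Subgroup.mem_bot] at hz
  exact ThreeTrans.ne_one H.set hd hz

theorem known_le (C : Cases.{u}) : ∀ (N : ℕ) {G : Type u} [Group G] [Finite G] {D : Set G},
    Nat.card G ≤ N → Hyp D → Known D := by
  intro N
  induction N with
  | zero =>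
    intro G _ _ D h _
    exact absurd h (Nat.not_le.2 Nat.card_pos)
  | succ N ih =>
    intro G _ _ D hN H
    obtain ⟨d, hd⟩ := H.nonempty
    by_cases hs : Group.IsSolvable ↥(lowGroup D d)
    · exact Or.inl (C.solvable H hd hs)
    by_cases h2 : pCore 2 ↥(lowGroup D d) ≤ Subgroup.center ↥(lowGroup D d)
    swap
    · exact Or.inl (Or.inr (C.twoCore H hd h2))
    by_cases h3 : pCore 3 ↥(lowGroup D d) ≤ Subgroup.center ↥(lowGroup D d)
    swap
    · have : Fact (Nat.Prime 2) := ⟨Nat.prime_two⟩
      have : Fact (Nat.Prime 3) := ⟨Nat.prime_three⟩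
      exact Or.inl (Or.inl (C.oddCore H hd fun h =>
        h3 ((Core.pCore_le_pPrimeCore (p := 2) (q := 3) (by norm_num)).trans h)))
    have S : Step D d := ⟨H, hd, hs, h2, h3⟩
    exact Or.inr (central_of_known C S
      (ih (G := LowBar D d) (by have := card_lowBar_lt H hd; omega) S.low))

/-- Every class satisfying the hypothesis is known. -/
theorem known (C : Cases.{u}) (H : Hyp D) : Known D := known_le C _ le_rfl H

/-- In the recursive case the outcome is restricted. -/
theorem central (C : Cases.{u}) (S : Step D d) : CentralOut D :=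
  central_of_known C S (known C S.low)

end Cfsg.Agent.FischerThm
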