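import Cfsg.Agent.FischerThm.MTypes.FourNone
import Cfsg.Agent.FischerThm.Local.Hyp
import Cfsg.Agent.ThreeTrans.Steps.M22
import Cfsg.Agent.ThreeTrans.Steps.M23
import Cfsg.Agent.ThreeTrans.Steps.M24

/-!
# U₆(2) and the types M(22), M(23), M(24) below
-/

set_option autoImplicit false

open Cfsg

namespace Cfsg.Agent.FischerThm

universe u

variable {G : Type u} [Group G] [Finite G] {D : Set G} {d : G}

/-- `PSU(6, 2)` below gives type M(22). -/
theorem psuSix (S : Step D d) (h : PSUAt (lowSet D d) 6) : IsOfTypeM22 G D := by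
  obtain ⟨F, _, _, hF, e, -⟩ := h
  exact ThreeTrans.Steps.m22_step S.toHyp.group S.toHyp.primitive S.toHyp.center_eq_bot S.mem hF e

/-- Type M(22) below gives type M(23). -/
theorem mTwentyTwo (S : Step D d) (h : IsOfTypeM22 (LowBar D d) (lowSet D d)) : IsOfTypeM23 G D :=
  ThreeTrans.Steps.m23_step S.toHyp.group S.toHyp.primitive S.toHyp.center_eq_bot S.mem h

/-- Type M(23) below gives type M(24). -/
theorem mTwentyThree (S : Step D d) (h : IsOfTypeM23 (LowBar D d) (lowSet D d)) : IsOfTypeM24 G D :=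
  ThreeTrans.Steps.m24_step S.toHyp.group S.toHyp.primitive S.toHyp.center_eq_bot S.mem h

/-- Type M(24) does not occur below. -/
theorem mTwentyFour (S : Step D d) (h : IsOfTypeM24 (LowBar D d) (lowSet D d)) : False :=
  no_M24_below S h

end Cfsg.Agent.FischerThm
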