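import Cfsg.Agent.FischerThm.Local.Chart
import Cfsg.Agent.ThreeTrans.OrthClass
import Cfsg.Agent.Classical.QuadStd

/-!
# Orthogonal groups over two elements in dimension at least eight do not occur below

The common partners of a line, seen from one of them with point `p`, are the points orthogonal to
`p` and to some `w` with `B p w = 1`; two commuting ones give contradicting functionals.
-/

set_option autoImplicit false

open scoped MatrixGroups
open Cfsg
open Cfsg.Agent.ThreeTrans (dperp OneDir)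

namespace Cfsg.Agent.FischerThm

open Matrix QuadraticMap Module Cfsg.Agent.Classical
open Cfsg.Agent.ThreeTrans.OrthTwo (z2)

namespace OrthTwoLow

section Space

variable {V : Type*} [AddCommGroup V] [Module (ZMod 2) V] [FiniteDimensional (ZMod 2) V]
  {Q : QuadraticForm (ZMod 2) V}

theorem self_zero (x : V) : polar Q x x = 0 := ThreeTrans.OrthTwo.polar_self_zero x

theorem add_self (x : V) : x + x = 0 := ThreeTrans.OrthTwo.add_self x

/-- The other points orthogonal to `p`. -/
def near (Q : QuadraticForm (ZMod 2) V) (p : V) : Set V := {v | Q v = 1 ∧ v ≠ p ∧ polar Q v p = 0}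

/-- A bijection between two local sets keeping orthogonality comes from a linear map: pulled back,
orthogonality to a point is given by a vector. -/
theorem exists_functional (hQ : (polarBilin Q).Nondegenerate) {p a c : V} (hp : Q p = 1)
    (ha : Q a = 1) (hac : polar Q a c = 1) {ψ : V → V} (hψ : Set.BijOn ψ (near Q p) (near Q a))
    (hB : ∀ u ∈ near Q p, ∀ v ∈ near Q p, polar Q (ψ u) (ψ v) = polar Q u v) :
    ∃ w, polar Q p w = 1 ∧ ∀ v ∈ near Q p, polar Q v w = polar Q (ψ v) c := by
  classical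
  have one_ne : (1 : ZMod 2) ≠ 0 := one_ne_zero
  let W : Submodule (ZMod 2) V := LinearMap.ker ((polarBilin Q).flip p)
  have hW : ∀ v, v ∈ W ↔ polar Q v p = 0 := fun v => Iff.rfl
  have hpW : p ∈ W := (hW p).2 (self_zero p)
  let r : V → V := fun v => if Q v = 1 then v else v + p
  have hr : ∀ v ∈ W, Q (r v) = 1 ∧ polar Q (r v) p = 0 := by
    intro v hv
    rw [hW] at hv
    rcases z2 (Q v) with h | h
    · simp only [r, h, if_neg (zero_ne_one (α := ZMod 2))]
      refine ⟨by rw [Quad.map_add', h, hp, hv]; decide, ?_⟩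
      rw [polar_add_left, hv, self_zero, add_zero]
    · simp only [r, h, if_true]
      exact ⟨trivial, hv⟩
  have hrB : ∀ u ∈ W, ∀ v ∈ W, polar Q (r u) (r v) = polar Q u v := by
    intro u hu v hv
    rw [hW] at hu hv
    simp only [r]
    split_ifs <;>
      simp [-QuadraticMap.polar_self, polar_add_left, polar_add_right, hu, hv, self_zero, polar_comm Q p]
  let θ : V → V := fun v => if v = p then a else ψ v
  have hθ : ∀ v ∈ W, Q (θ (r v)) = 1 ∧ polar Q (θ (r v)) a = 0 := by
    intro v hv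
    by_cases h : r v = p
    · simp only [θ, if_pos h]; exact ⟨ha, self_zero a⟩
    · simp only [θ, if_neg h]
      have := hψ.mapsTo ⟨(hr v hv).1, h, (hr v hv).2⟩
      exact ⟨this.1, this.2.2⟩
  have hθB : ∀ u ∈ W, ∀ v ∈ W, polar Q (θ (r u)) (θ (r v)) = polar Q u v := by
    intro u hu v hv
    rw [← hrB u hu v hv]
    by_cases h : r u = p <;> by_cases h' : r v = p <;> simp only [θ, if_pos, if_neg, h, h', not_false_eq_true]
    · rw [self_zero, self_zero]
    · rw [polar_comm, (hψ.mapsTo ⟨(hr v hv).1, h', (hr v hv).2⟩).2.2, polar_comm, (hr v hv).2]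
    · rw [(hψ.mapsTo ⟨(hr u hu).1, h, (hr u hu).2⟩).2.2, (hr u hu).2]
    · exact hB _ ⟨(hr u hu).1, h, (hr u hu).2⟩ _ ⟨(hr v hv).1, h', (hr v hv).2⟩
  let Ψ : V → V := fun v => θ (r v) + (1 + Q v) • a
  have hΨQ : ∀ v ∈ W, Q (Ψ v) = Q v := by
    intro v hv
    obtain ⟨h1, h2⟩ := hθ v hv
    rcases z2 (Q v) with h | h <;> simp only [Ψ, h]
    · rw [add_zero, one_smul, Quad.map_add', h1, ha, h2]; decide
    · rw [show (1 : ZMod 2) + 1 = 0 by decide, zero_smul, add_zero, h1]
  have hΨa : ∀ v ∈ W, polar Q (Ψ v) a = 0 := fun v hv => by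
    simp [-QuadraticMap.polar_self, Ψ, polar_add_left, polar_smul_left, (hθ v hv).2, self_zero]
  have hΨB : ∀ u ∈ W, ∀ v ∈ W, polar Q (Ψ u) (Ψ v) = polar Q u v := fun u hu v hv => by
    simp [-QuadraticMap.polar_self, Ψ, polar_add_left, polar_add_right, polar_smul_left, polar_smul_right, (hθ u hu).2,
      (hθ v hv).2, self_zero, polar_comm Q a, hθB u hu v hv]
  have hΨp : Ψ p = a := by
    simp [Ψ, r, θ, hp, show (1 : ZMod 2) + 1 = 0 by decide]
  have hsurj : ∀ e ∈ near Q a, ∃ v ∈ W, Ψ v = e := by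
    intro e he
    obtain ⟨v, hv, rfl⟩ := hψ.surjOn he
    exact ⟨v, hv.2.2, by simp [Ψ, r, θ, hv.1, hv.2.1, show (1 : ZMod 2) + 1 = 0 by decide]⟩
  have hΨv : ∀ v ∈ near Q p, Ψ v = ψ v := fun v hv => by
    simp [Ψ, r, θ, hv.1, hv.2.1, show (1 : ZMod 2) + 1 = 0 by decide]
  clear_value Ψ
  have hadd : ∀ u ∈ W, ∀ v ∈ W, Ψ (u + v) = Ψ u + Ψ v := by
    intro u hu v hv
    have huv := W.add_mem hu hv
    set Δ := Ψ (u + v) + (Ψ u + Ψ v) with hΔ
    suffices Δ = 0 by
      rw [hΔ, add_eq_zero_iff_eq_neg, ← neg_one_smul (ZMod 2), ZModModule.neg_eq_self, one_smul] at this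
      exact this
    have hperp : ∀ z, polar Q z a = 0 → polar Q Δ z = 0 := by
      intro z hz
      have key : ∀ e ∈ near Q a, polar Q Δ e = 0 := by
        intro e he
        obtain ⟨w, hw, rfl⟩ := hsurj e he
        rw [hΔ, polar_add_left, polar_add_left, hΨB _ huv _ hw, hΨB _ hu _ hw, hΨB _ hv _ hw,
          polar_add_left]
        exact CharTwo.add_self_eq_zero _
      have hΔa : polar Q Δ a = 0 := by
        rw [hΔ, polar_add_left, polar_add_left, hΨa _ huv, hΨa _ hu, hΨa _ hv, add_zero, add_zero]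
      rcases z2 (Q z) with h | h
      · by_cases h0 : z = 0
        · rw [h0, polar_zero_right]
        · have := key (z + a) ⟨by rw [Quad.map_add', h, ha, hz]; decide, fun e => h0 (add_eq_right.1 e),
            by rw [polar_add_left, hz, self_zero, add_zero]⟩
          rwa [polar_add_right, hΔa, add_zero] at this
      · by_cases h0 : z = a
        · rw [h0, hΔa]
        · exact key z ⟨h, h0, hz⟩
    have hΔQ : Q Δ = 0 := by
      rw [hΔ, Quad.map_add', Quad.map_add', polar_add_right, hΨB _ huv _ hu, hΨB _ huv _ hv,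
        hΨB _ hu _ hv, hΨQ _ huv, hΨQ _ hu, hΨQ _ hv, Quad.map_add', polar_add_left, polar_add_left,
        self_zero, self_zero, polar_comm Q v u]
      generalize Q u = x
      generalize Q v = y
      generalize polar Q u v = z
      revert x y z
      decide
    -- `Δ` is orthogonal to the hyperplane of `a`
    have hspan : Δ = 0 ∨ Δ = a := by
      rcases z2 (polar Q Δ c) with h | h
      · left
        refine hQ.1 Δ fun z => ?_
        show polar Q Δ z = 0
        have := hperp (z + polar Q z a • c) (by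
          rw [polar_add_left, polar_smul_left, polar_comm Q c, hac, smul_eq_mul, mul_one]
          exact CharTwo.add_self_eq_zero _)
        rwa [polar_add_right, polar_smul_right, h, smul_zero, add_zero] at this
      · right
        suffices Δ + a = 0 by
          rw [add_eq_zero_iff_eq_neg, ← neg_one_smul (ZMod 2), ZModModule.neg_eq_self, one_smul] at this
          exact this
        refine hQ.1 _ fun z => ?_
        show polar Q (Δ + a) z = 0
        have := hperp (z + polar Q z a • c) (by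
          rw [polar_add_left, polar_smul_left, polar_comm Q c, hac, smul_eq_mul, mul_one]
          exact CharTwo.add_self_eq_zero _)
        rw [polar_add_right, polar_smul_right, h, smul_eq_mul, mul_one] at this
        rw [polar_add_left, polar_comm Q a z]
        exact this
    rcases hspan with h | h
    · exact h
    · rw [h, ha] at hΔQ; exact absurd hΔQ one_ne
  let f : W →ₗ[ZMod 2] ZMod 2 :=
    (AddMonoidHom.mk' (fun v : W => polar Q (Ψ v) c) fun u v => by
      show polar Q (Ψ (u + v : V)) c = _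
      rw [hadd _ u.2 _ v.2, polar_add_left]).toZModLinearMap 2
  obtain ⟨g, hg⟩ := LinearMap.exists_extend f
  obtain ⟨w, hw⟩ : ∃ w, ∀ v, polar Q w v = g v := by
    refine ⟨(LinearMap.BilinForm.toDual (polarBilin Q) hQ).symm g, fun v => ?_⟩
    exact LinearMap.BilinForm.apply_toDual_symm_apply (B := polarBilin Q) (hB := hQ) g v
  have hwW : ∀ v, ∀ hv : v ∈ W, polar Q v w = polar Q (Ψ v) c := fun v hv => by
    rw [polar_comm, hw]
    exact LinearMap.congr_fun hg ⟨v, hv⟩
  refine ⟨w, by rw [hwW p hpW, hΨp, hac], fun v hv => ?_⟩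
  rw [hwW v hv.2.2, hΨv v hv]

/-- Constraints by functionals leave much room. -/
theorem exists_not_mem {k : ℕ} (L : V →ₗ[ZMod 2] (Fin k → ZMod 2)) (S : Submodule (ZMod 2) V)
    (h : finrank (ZMod 2) S + k < finrank (ZMod 2) V) : ∃ v, L v = 0 ∧ v ∉ S := by
  by_contra hc
  push Not at hc
  have h1 := Submodule.finrank_mono (show LinearMap.ker L ≤ S from fun v hv => hc v (LinearMap.mem_ker.1 hv))
  have h2 := LinearMap.finrank_range_add_finrank_ker L
  have h3 := Submodule.finrank_le (LinearMap.range L)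
  rw [Module.finrank_fin_fun] at h3
  omega

theorem finrank_span_pair (p q : V) : finrank (ZMod 2) (Submodule.span (ZMod 2) ({p, q} : Set V)) ≤ 2 := by
  classical
  refine (finrank_span_le_card ({p, q} : Set V)).trans ?_
  rw [Set.toFinset_insert, Set.toFinset_singleton]
  exact Finset.card_le_two

/-- Two orthogonal points cannot carry such functionals that agree on their common neighbours. -/
theorem no_pair (hn : 8 ≤ finrank (ZMod 2) V) {p q w w' : V} (hp : Q p = 1) (hq : Q q = 1)
    (hpq : polar Q p q = 0) (hpw : polar Q p w = 1) (hpw' : polar Q p w' = 0)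
    (heq : ∀ v, Q v = 1 → v ≠ p → v ≠ q → polar Q v p = 0 → polar Q v q = 0 →
      polar Q v w = polar Q v w') : False := by
  classical
  set S := Submodule.span (ZMod 2) ({p, q} : Set V) with hS
  have hpS : p ∈ S := Submodule.subset_span (by simp)
  have hqS : q ∈ S := Submodule.subset_span (by simp)
  -- adjust to a nonsingular vector
  have adj : ∀ (T : Submodule (ZMod 2) V) (v : V), p ∈ T → v ∉ T → polar Q v p = 0 → polar Q v q = 0 →
      ∃ u, Q u = 1 ∧ u ∉ T ∧ polar Q u p = 0 ∧ polar Q u q = 0 ∧ (u = v ∨ u = v + p) := by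
    intro T v hpT hv h1 h2
    rcases z2 (Q v) with h | h
    · refine ⟨v + p, by rw [Quad.map_add', h, hp, h1]; decide, fun h' => hv ?_,
        by rw [polar_add_left, h1, self_zero, add_zero], by rw [polar_add_left, h2, hpq, add_zero], Or.inr rfl⟩
      have := T.add_mem h' hpT
      rwa [add_assoc, add_self, add_zero] at this
    · exact ⟨v, h, hv, h1, h2, Or.inl rfl⟩
  let B : V → V →ₗ[ZMod 2] ZMod 2 := fun u => (polarBilin Q).flip u
  obtain ⟨v₀, hv₀, hv₀S⟩ := exists_not_mem (LinearMap.pi ![B p, B q]) S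
    (by have := finrank_span_pair p q; rw [← hS] at this; omega)
  obtain ⟨v, hv, hvS, hvp, hvq, -⟩ := adj S v₀ hpS hv₀S (congrFun hv₀ 0) (congrFun hv₀ 1)
  set T := S ⊔ Submodule.span (ZMod 2) {v} with hT
  obtain ⟨u₀, hu₀, hu₀T⟩ := exists_not_mem (LinearMap.pi ![B p, B q, B v]) T (by
    have h1 := finrank_span_pair p q
    rw [← hS] at h1
    have h2 := Submodule.finrank_add_le_finrank_add_finrank S (Submodule.span (ZMod 2) {v})
    have h3 : finrank (ZMod 2) (Submodule.span (ZMod 2) {v}) ≤ 1 := by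
      refine (finrank_span_le_card ({v} : Set V)).trans ?_
      simp
    rw [← hT] at h2
    omega)
  obtain ⟨u, hu, huT, hup, huq, huv⟩ := adj T u₀ (le_sup_left (a := S) hpS) hu₀T
    (congrFun hu₀ 0) (congrFun hu₀ 1)
  have hvu : polar Q v u = 0 := by
    have h2 : polar Q u₀ v = 0 := congrFun hu₀ 2
    rcases huv with rfl | rfl
    · rw [polar_comm, h2]
    · rw [polar_add_right, polar_comm, h2, hvp, add_zero]
  have hS' : ∀ {z}, z ∉ S → z ≠ p ∧ z ≠ q := fun hz =>
    ⟨fun h => hz (h ▸ hpS), fun h => hz (h ▸ hqS)⟩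
  have huvS : u + v + p ∉ S := fun h => huT (by
    have h' : u + v + p + (v + p) ∈ T :=
      T.add_mem (le_sup_left (a := S) h)
        (T.add_mem (le_sup_right (a := S) (Submodule.mem_span_singleton_self v)) (le_sup_left (a := S) hpS))
    rwa [add_assoc (u + v), add_comm v p, ← add_assoc p p v, add_self, zero_add, add_assoc, add_self, add_zero] at h')
  have h1 := heq v hv (hS' hvS).1 (hS' hvS).2 hvp hvq
  have h2 := heq u hu (hS' fun h => huT (le_sup_left (a := S) h)).1
    (hS' fun h => huT (le_sup_left (a := S) h)).2 hup huq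
  have h3 := heq (u + v + p) (by
      rw [Quad.map_add', Quad.map_add', hu, hv, hp, polar_add_left, hup, hvp, polar_comm Q u v, hvu]
      decide) (hS' huvS).1 (hS' huvS).2
    (by rw [polar_add_left, polar_add_left, hup, hvp, self_zero, add_zero, add_zero])
    (by rw [polar_add_left, polar_add_left, huq, hvq, hpq, add_zero, add_zero])
  rw [polar_add_left, polar_add_left, polar_add_left, polar_add_left, h1, h2, hpw, hpw', add_zero,
    add_eq_left] at h3
  exact one_ne_zero h3

end Space

section Group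

variable {ι : Type} [Fintype ι] [DecidableEq ι] {Q : QuadraticForm (ZMod 2) (ι → ZMod 2)}

/-- The orthogonal transvections as the nonsingular vectors. -/
theorem exists_point (hQ : (polarBilin Q).Nondegenerate) :
    ∃ π : ↥(Cfsg.isometryGroup (ZMod 2) ⇑Q) → (ι → ZMod 2),
      Set.BijOn π {g : ↥(Cfsg.isometryGroup (ZMod 2) ⇑Q) |
        (((g : GL ι (ZMod 2)) : Matrix ι ι (ZMod 2)) - 1).rank = 1} {v | Q v = 1} ∧
      ∀ g h : ↥(Cfsg.isometryGroup (ZMod 2) ⇑Q),
        (((g : GL ι (ZMod 2)) : Matrix ι ι (ZMod 2)) - 1).rank = 1 →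
        (((h : GL ι (ZMod 2)) : Matrix ι ι (ZMod 2)) - 1).rank = 1 →
        (Commute g h ↔ polar Q (π g) (π h) = 0) := by
  classical
  let IsPt : ↥(Cfsg.isometryGroup (ZMod 2) ⇑Q) → (ι → ZMod 2) → Prop := fun g v =>
    Q v = 1 ∧ ∀ x, g.1.1 *ᵥ x = x + polar Q x v • v
  have hex : ∀ g : ↥(Cfsg.isometryGroup (ZMod 2) ⇑Q), (g.1.1 - 1).rank = 1 → ∃ v, IsPt g v := by
    intro g hg
    obtain ⟨v, φ, hv, hφ, hgv⟩ := ThreeTrans.exists_oneDir_of_rank hg
    obtain ⟨hQv, hφ'⟩ := ThreeTrans.eq_polar_of_isometry hQ (Quad.mem_isometryGroup_iff.1 g.2) hv hφ hgv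
    exact ⟨v, hQv, fun x => by rw [hgv x, hφ']⟩
  have hne : ∀ {v}, Q v = 1 → v ≠ 0 := fun hv h => by rw [h, map_zero] at hv; exact absurd hv (by decide)
  have hdual : ∀ {v}, Q v = 1 → ∃ y, polar Q y v = 1 := fun {v} hv => by
    by_contra hc
    push Not at hc
    exact hne hv (hQ.1 _ fun y => by
      rw [polarBilin_apply_apply, polar_comm]; exact (z2 _).resolve_right (hc y))
  have huniq : ∀ g v v', IsPt g v → IsPt g v' → v = v' := by
    intro g v v' h h'
    obtain ⟨y, hy⟩ := hdual h.1
    have e := (h.2 y).symm.trans (h'.2 y)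
    rw [hy, one_smul, add_right_inj] at e
    rcases z2 (polar Q y v') with e' | e' <;> rw [e'] at e
    · rw [zero_smul] at e; exact absurd e (hne h.1)
    · rwa [one_smul] at e
  have ext : ∀ a b : ↥(Cfsg.isometryGroup (ZMod 2) ⇑Q), (∀ x, a.1.1 *ᵥ x = b.1.1 *ᵥ x) → a = b :=
    fun a b h => Subtype.ext (Units.ext (ThreeTrans.eq_of_mulVec h))
  let π : ↥(Cfsg.isometryGroup (ZMod 2) ⇑Q) → (ι → ZMod 2) :=
    fun g => if h : ∃ v, IsPt g v then h.choose else 0
  have hπ : ∀ g, (g.1.1 - 1).rank = 1 → IsPt g (π g) := fun g hg => by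
    simp only [π, dif_pos (hex g hg)]
    exact (hex g hg).choose_spec
  refine ⟨π, ⟨fun g hg => (hπ g hg).1, fun g hg h hh he => ext g h fun x => ?_, fun v hv => ?_⟩, ?_⟩
  · rw [(hπ g hg).2, (hπ h hh).2, he]
  · obtain ⟨t, -, hto, hta⟩ := ThreeTrans.OrthTwo.exists_tv (Q := Q) hv
    set g := (Quad.oEquiv Q).symm ⟨t, hto⟩ with hg
    have hgx : ∀ x, g.1.1 *ᵥ x = x + polar Q x v • v := fun x => by
      rw [← hta, ← Quad.oEquiv_apply, MulEquiv.apply_symm_apply]
    have hrank : (g.1.1 - 1).rank = 1 :=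
      ThreeTrans.rank_of_oneDir (hne hv) (φ := (polarBilin Q).flip v) (hdual hv) fun x => hgx x
    exact ⟨g, hrank, huniq g _ _ (hπ g hrank) ⟨hv, hgx⟩⟩
  · intro g h hg hh
    obtain ⟨hu, hgu⟩ := hπ g hg
    obtain ⟨hv, hhv⟩ := hπ h hh
    constructor
    · intro hc
      refine (z2 _).resolve_right fun h1 => hne hu ?_
      have e := congrArg (fun z : ↥(Cfsg.isometryGroup (ZMod 2) ⇑Q) => z.1.1 *ᵥ π g) hc.eq
      simp only [Subgroup.coe_mul, Units.val_mul, ← Matrix.mulVec_mulVec] at e
      rw [hhv (π g), h1, one_smul, hgu (π g + π h), hgu (π g), self_zero, zero_smul, add_zero,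
        polar_add_left, self_zero, polar_comm Q (π h), h1, zero_add, one_smul, hhv (π g), h1, one_smul,
        add_eq_left] at e
      exact e
    · intro h0
      refine ext _ _ fun x => ?_
      simp only [Subgroup.coe_mul, Units.val_mul, ← Matrix.mulVec_mulVec]
      rw [hhv x, hgu x, hgu, hhv, polar_add_left, polar_add_left, polar_smul_left, polar_smul_left,
        polar_comm Q (π h), h0, smul_zero, smul_zero, add_zero, add_zero, add_right_comm]

/-- The orthogonal transvections in dimension at least eight are not a local class. -/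
theorem no_low {G : Type*} [Group G] [Finite G] {D : Set G} {d : G} (S : Step D d)
    (hQ : (polarBilin Q).Nondegenerate) (hn : 8 ≤ Fintype.card ι)
    (he : ∃ e : LowBar D d ≃* ↥(Cfsg.isometryGroup (ZMod 2) ⇑Q), e '' lowSet D d =
      {g : ↥(Cfsg.isometryGroup (ZMod 2) ⇑Q) |
        (((g : GL ι (ZMod 2)) : Matrix ι ι (ZMod 2)) - 1).rank = 1}) : False := by
  classical
  have hn' : 8 ≤ finrank (ZMod 2) (ι → ZMod 2) := by rwa [Module.finrank_fintype_fun_eq_card]
  obtain ⟨φ, C⟩ := S.exists_chart he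
  obtain ⟨π, hπ, hπc⟩ := exists_point hQ
  set E : Set ↥(Cfsg.isometryGroup (ZMod 2) ⇑Q) :=
    {g : ↥(Cfsg.isometryGroup (ZMod 2) ⇑Q) | (((g : GL ι (ZMod 2)) : Matrix ι ι (ZMod 2)) - 1).rank = 1} with hE
  -- the local sets are the local sets of points
  have hnear : ∀ g ∈ E, Set.BijOn π (dperp E g) (near Q (π g)) := by
    intro g hg
    refine ⟨fun h hh => ⟨hπ.mapsTo hh.1, fun e => hh.2.1 (hπ.injOn hh.1 hg e), ?_⟩,
      hπ.injOn.mono fun h hh => hh.1, fun v hv => ?_⟩
    · rw [polar_comm]; exact (hπc g h hg hh.1).1 hh.2.2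
    · obtain ⟨h, hh, rfl⟩ := hπ.surjOn hv.1
      exact ⟨h, ⟨hh, fun e => hv.2.1 (by rw [e]), (hπc g h hg hh).2 (by rw [polar_comm]; exact hv.2.2)⟩, rfl⟩
  obtain ⟨c, hc, hdc⟩ := S.toHyp.exists_not_commute S.mem
  have hc' : c ∈ aside D d := ⟨hc, hdc⟩
  -- the functional at a common partner
  have key : ∀ x ∈ common D d c, ∃ w, polar Q (π (φ x)) w = 1 ∧
      ∀ z ∈ dperp D d ∩ dperp D x, (z ∈ common D d c ↔ polar Q (π (φ z)) w = 0) := by
    intro x hx
    obtain ⟨a, ha, b, hb, ψ, hψ, hψc, -, hψS⟩ := S.local_common C hc' hx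
    have hxE : φ x ∈ E := C.mem hx.1
    have hx' := hnear _ hxE
    let inv := Function.invFunOn π (dperp E (φ x))
    have hinv : ∀ v ∈ near Q (π (φ x)), inv v ∈ dperp E (φ x) ∧ π (inv v) = v := fun v hv =>
      ⟨Function.invFunOn_mem (hx'.surjOn hv), Function.invFunOn_eq (hx'.surjOn hv)⟩
    have hab : polar Q (π a) (π b) = 1 :=
      (z2 _).resolve_left fun h => hb.2 ((hπc a b ha hb.1).2 h)
    obtain ⟨w, hpw, hw⟩ := exists_functional hQ (hπ.mapsTo hxE) (hπ.mapsTo ha) hab
      (ψ := fun v => π (ψ (inv v)))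
      (((hnear a ha).comp hψ).comp (show Set.BijOn inv (near Q (π (φ x))) (dperp E (φ x)) from
        ⟨fun v hv => (hinv v hv).1, fun u hu v hv h => by rw [← (hinv u hu).2, h, (hinv v hv).2],
          fun g hg => ⟨π g, hx'.mapsTo hg,
            hx'.injOn (hinv _ (hx'.mapsTo hg)).1 hg (hinv _ (hx'.mapsTo hg)).2⟩⟩))
      (fun u hu v hv => by
        obtain ⟨hu1, hu2⟩ := hinv u hu
        obtain ⟨hv1, hv2⟩ := hinv v hv
        conv_rhs => rw [← hu2, ← hv2]
        have h1 := hπc _ _ (hψ.mapsTo hu1).1 (hψ.mapsTo hv1).1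
        have h2 := hπc _ _ hu1.1 hv1.1
        rw [hψc _ hu1 _ hv1, h2] at h1
        rcases z2 (polar Q (π (ψ (inv u))) (π (ψ (inv v)))) with e | e <;>
          rcases z2 (polar Q (π (inv u)) (π (inv v))) with e' | e' <;> simp only [e, e'] at h1 ⊢
        · exact absurd (h1.2 trivial) one_ne_zero
        · exact absurd (h1.1 trivial) one_ne_zero)
    refine ⟨w, hpw, fun z hz => ?_⟩
    have hzE : φ z ∈ dperp E (φ x) := (C.mem_dperp_iff hx.1 hz.1).2 hz.2
    have hzv := hx'.mapsTo hzE
    rw [hψS z hz, hw _ hzv]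
    have hzi : inv (π (φ z)) = φ z := hx'.injOn (hinv _ hzv).1 hzE (hinv _ hzv).2
    simp only [hzi]
    rw [polar_comm]
    have hψz : ψ (φ z) ∈ E := (hψ.mapsTo hzE).1
    constructor
    · intro h
      exact (hπc _ _ hb.1 hψz).1 h.2.2
    · intro h
      refine ⟨hψz, fun e => ?_, (hπc _ _ hb.1 hψz).2 h⟩
      have h2 := (hψ.mapsTo hzE).2.2
      rw [e] at h2
      exact hb.2 h2
  -- a common partner and one commuting with it
  obtain ⟨x, hx, hxc⟩ := ThreeTrans.exists_common S.sol' S.perf S.cls S.mem hc hdc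
  have hxS : x ∈ common D d c :=
    ⟨hx, hx.1, fun e => hdc (e ▸ hx.2.2), hxc.symm⟩
  obtain ⟨w, hpw, hw⟩ := key x hxS
  set p := π (φ x) with hp
  have hp1 : Q p = 1 := hπ.mapsTo (C.mem hxS.1)
  obtain ⟨v₀, hv₀, hv₀S⟩ := exists_not_mem (LinearMap.pi ![(polarBilin Q).flip p, (polarBilin Q).flip w])
    (Submodule.span (ZMod 2) {p}) (by
      have : finrank (ZMod 2) (Submodule.span (ZMod 2) ({p} : Set (ι → ZMod 2))) ≤ 1 :=
        (finrank_span_le_card _).trans (by simp)
      omega)
  obtain ⟨q, hq, hqp, hqpp, hqw⟩ : ∃ q, Q q = 1 ∧ q ≠ p ∧ polar Q q p = 0 ∧ polar Q q w = 0 := by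
    have e1 : polar Q v₀ p = 0 := congrFun hv₀ 0
    have e2 : polar Q v₀ w = 0 := congrFun hv₀ 1
    rcases z2 (Q v₀) with h | h
    · -- a second vector makes the value one
      obtain ⟨u₀, hu₀, hu₀S⟩ := exists_not_mem
        (LinearMap.pi ![(polarBilin Q).flip p, (polarBilin Q).flip w])
        (Submodule.span (ZMod 2) ({p, v₀} : Set (ι → ZMod 2)))
        (by have := finrank_span_pair p v₀; omega)
      have f1 : polar Q u₀ p = 0 := congrFun hu₀ 0
      have f2 : polar Q u₀ w = 0 := congrFun hu₀ 1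
      rcases z2 (Q u₀) with h' | h'
      · rcases z2 (polar Q u₀ v₀) with g | g
        · -- all three singular and orthogonal: use a vector pairing with `v₀`
          obtain ⟨y, hy⟩ : ∃ y, polar Q v₀ y = 1 := by
            by_contra hc
            push Not at hc
            have h0 : v₀ = 0 := hQ.1 v₀ fun y => (z2 _).resolve_right (hc y)
            exact hv₀S (h0 ▸ Submodule.zero_mem _)
          set y₁ := y + polar Q y p • w + polar Q y w • p with hy₁
          have k1 : polar Q y₁ p = 0 := by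
            rw [hy₁, polar_add_left, polar_add_left, polar_smul_left, polar_smul_left, self_zero,
              polar_comm Q w p, hpw, smul_zero, add_zero, smul_eq_mul, mul_one]
            exact CharTwo.add_self_eq_zero _
          have k2 : polar Q y₁ w = 0 := by
            rw [hy₁, polar_add_left, polar_add_left, polar_smul_left, polar_smul_left, self_zero,
              hpw, smul_zero, add_zero, smul_eq_mul, mul_one]
            exact CharTwo.add_self_eq_zero _
          have k3 : polar Q y₁ v₀ = 1 := by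
            rw [hy₁, polar_add_left, polar_add_left, polar_smul_left, polar_smul_left,
              polar_comm Q y v₀, hy, polar_comm Q w, polar_comm Q p, e1, e2, smul_zero, smul_zero,
              add_zero, add_zero]
          rcases z2 (Q y₁) with h'' | h''
          · refine ⟨y₁ + v₀, by rw [Quad.map_add', h'', h, k3]; decide, fun e => ?_,
              by rw [polar_add_left, k1, e1, add_zero], by rw [polar_add_left, k2, e2, add_zero]⟩
            have : polar Q (y₁ + v₀) v₀ = polar Q p v₀ := by rw [e]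
            rw [polar_add_left, k3, self_zero, add_zero, polar_comm Q p, e1] at this
            exact one_ne_zero this
          · exact ⟨y₁, h'', fun e => by
              rw [e, polar_comm, e1] at k3
              exact zero_ne_one k3, k1, k2⟩
        · refine ⟨u₀ + v₀, by rw [Quad.map_add', h', h, g]; decide, fun e => hu₀S ?_,
            by rw [polar_add_left, f1, e1, add_zero], by rw [polar_add_left, f2, e2, add_zero]⟩
          rw [show u₀ = u₀ + v₀ + v₀ by rw [add_assoc, add_self, add_zero], e]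
          exact Submodule.add_mem _ (Submodule.subset_span (by simp)) (Submodule.subset_span (by simp))
      · exact ⟨u₀, h', fun e => hu₀S (e ▸ Submodule.subset_span (by simp)), f1, f2⟩
    · exact ⟨v₀, h, fun e => hv₀S (by rw [e]; exact Submodule.mem_span_singleton_self p), e1, e2⟩
  obtain ⟨e, heE, rfl⟩ := hπ.surjOn hq
  obtain ⟨y, hy, rfl⟩ := C.exists_eq heE
  have hyx : y ∈ dperp D x := (C.mem_dperp_iff hxS.1 hy).1
    ⟨heE, fun h => hqp (by rw [hp, h]),
      (hπc _ _ (C.mem hxS.1) heE).2 (by rw [polar_comm]; exact hqpp)⟩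
  have hyS : y ∈ common D d c := (hw y ⟨hy, hyx⟩).2 hqw
  obtain ⟨w', hqw', hw'⟩ := key y hyS
  have hxy : x ∈ dperp D y := ⟨hxS.1.1, Ne.symm hyx.2.1, hyx.2.2.symm⟩
  refine no_pair hn' hp1 hq (by rw [polar_comm]; exact hqpp) hpw ((hw' x ⟨hxS.1, hxy⟩).1 hxS) ?_
  intro v hv hvp hvq hvpp hvqq
  obtain ⟨e, heE, rfl⟩ := hπ.surjOn hv
  obtain ⟨z, hz, rfl⟩ := C.exists_eq heE
  have hzx : z ∈ dperp D x := (C.mem_dperp_iff hxS.1 hz).1
    ⟨heE, fun h => hvp (by rw [hp, h]),
      (hπc _ _ (C.mem hxS.1) heE).2 (by rw [polar_comm]; exact hvpp)⟩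
  have hzy : z ∈ dperp D y := (C.mem_dperp_iff hy hz).1
    ⟨heE, fun h => hvq (by rw [h]),
      (hπc _ _ (C.mem hy) heE).2 (by rw [polar_comm]; exact hvqq)⟩
  have h1 := hw z ⟨hz, hzx⟩
  have h2 := hw' z ⟨hz, hzy⟩
  rw [h1] at h2
  rcases z2 (polar Q (π (φ z)) w) with a | a <;> rcases z2 (polar Q (π (φ z)) w') with b | b <;>
    rw [a, b] at h2 <;> rw [a, b]
  · exact absurd (h2.1 rfl) one_ne_zero
  · exact absurd (h2.2 rfl) one_ne_zero

end Group

end OrthTwoLow

variable {G : Type*} [Group G] [Finite G] {D : Set G} {d : G} {m : ℕ}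

/-- Orthogonal groups of plus type in dimension at least eight do not occur below. -/
theorem oplus (S : Step D d) (hm : 4 ≤ m) (h : OPlusAt (lowSet D d) m) : False := by
  let Q : QuadraticForm (ZMod 2) (Fin m ⊕ Fin m → ZMod 2) :=
    (Quad.hyp (Quad.zeroForm (ZMod 2)) m).comp (Quad.plusCoord m).toLinearMap
  have hQ : ⇑Q = Cfsg.quadFormPlus m (ZMod 2) := funext fun v => Quad.plusCoord_map m v
  have hnd : (QuadraticMap.polarBilin Q).Nondegenerate := Quad.nondeg_of fun x hx => by
    refine (Quad.plusCoord m).map_eq_zero_iff.1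
      ((Quad.nondeg_hyp (Quad.nondeg_zeroForm) m).1 _ fun y => ?_)
    obtain ⟨z, rfl⟩ := (Quad.plusCoord m).surjective y
    have h := hx z
    simpa [Q, QuadraticMap.polar] using h
  refine OrthTwoLow.no_low S hnd (by simp; omega) ?_
  rw [hQ]
  exact h

/-- Orthogonal groups of minus type in dimension at least eight do not occur below. -/
theorem ominus (S : Step D d) (hm : 3 ≤ m) (h : OMinusAt (lowSet D d) m) : False := by
  let Q : QuadraticForm (ZMod 2) ((Fin m ⊕ Fin m) ⊕ Fin 2 → ZMod 2) :=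
    (Quad.hyp (Quad.binForm (1 : ZMod 2) 1) m).comp (Quad.minusCoord m).toLinearMap
  have hQ : ⇑Q = Cfsg.quadFormMinus m (ZMod 2) 1 1 := funext fun v => Quad.minusCoord_map 1 1 m v
  have hnd : (QuadraticMap.polarBilin Q).Nondegenerate := Quad.nondeg_of fun x hx => by
    refine (Quad.minusCoord m).map_eq_zero_iff.1
      ((Quad.nondeg_hyp (Quad.nondeg_binForm (a := (1 : ZMod 2)) (b := 1) (by decide)) m).1 _ fun y => ?_)
    obtain ⟨z, rfl⟩ := (Quad.minusCoord m).surjective y
    have h := hx z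
    simpa [Q, QuadraticMap.polar] using h
  refine OrthTwoLow.no_low S hnd (by simp; omega) ?_
  rw [hQ]
  exact h

end Cfsg.Agent.FischerThm
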