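import Cfsg.Agent.FischerThm.Bottom.Main
import Cfsg.Agent.FischerThm.Refl.Main
import Cfsg.Agent.FischerThm.Refl.PsuFour
import Cfsg.Agent.FischerThm.Refl.OMinusTwo
import Cfsg.Agent.FischerThm.Sym.Iso
import Cfsg.Agent.FischerThm.OrthTwoLow
import Cfsg.Agent.FischerThm.Symp.Main
import Cfsg.Agent.FischerThm.PSULow.Main
import Cfsg.Agent.FischerThm.MTypes
import Cfsg.Agent.FischerThm.Cases

/-!
# Fischer's classification: all cases
-/

set_option autoImplicit false

open Cfsg

namespace Cfsg.Agent.FischerThm

universe u

/-- Every case of the induction. -/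
theorem allCases : Cases.{u} where
  solvable h _ hd hs := solvable h hd hs
  oddCore h _ hd hs := FischerThm.oddCore h hd hs
  twoCore h _ hd hs := twoCore h hd hs
  sym S a b c := sym S a b c
  symp S a b := symp S a b
  oplus S a b := oplus S a b
  ominus S a b := ominus S a b
  refl S a b := Refl.refl S a b
  psuFive S a := PSULow.psuFive S a
  psuSix S a := psuSix S a
  psuLarge S a b := PSULow.psuLarge S a b
  mTwentyTwo S a := mTwentyTwo S a
  mTwentyThree S a := mTwentyThree S a
  mTwentyFour S a := mTwentyFour S a
  psuFourRefl h a := Refl.psuFourRefl h a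
  oplusThreeSym h a := oplusThreeSym h a
  ominusTwoRefl h a := Refl.ominusTwoRefl h a

end Cfsg.Agent.FischerThm
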