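import Cfsg.Agent.FischerThm.Glue

/-!
# The two classification statements in their printed shape
-/

set_option autoImplicit false

open scoped MatrixGroups
open Cfsg

namespace Cfsg.Agent.FischerThm

universe u

variable {G : Type u} [Group G] [Finite G] {D : Set G}

theorem shape_fischer (C : Cases.{u}) (hD : IsThreeTranspositionClass D)
    (hZ : Subgroup.center G = ⊥) (hs : IsSimpleGroup (commutator G)) :
    (∃ n, SymAt D n) ∨ (∃ m, SpAt D m) ∨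
    (∃ (n : ℕ) (F : Type) (_ : Field F) (_ : Fintype F), Fintype.card F = 4 ∧
      ∃ e : G ≃* Cfsg.PSU n F 2, e '' D = (QuotientGroup.mk : ↥(Cfsg.SU n F 2) → Cfsg.PSU n F 2) ''
        {g : ↥(Cfsg.SU n F 2) |
          (((g : Matrix.SpecialLinearGroup (Fin n) F) : Matrix (Fin n) (Fin n) F) - 1).rank = 1}) ∨
    ((∃ m, OPlusAt D m) ∨ ∃ m, OMinusAt D m) ∨ (∃ n, ReflAt D n) ∨
    (IsOfTypeM22 G D ∨ IsOfTypeM23 G D ∨ IsOfTypeM24 G D) := by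
  rcases fischer C hD hZ hs with h | (h | ⟨m, -, h⟩ | ⟨n, -, h⟩) |
      (⟨n, -, h⟩ | ⟨m, -, h⟩ | ⟨m, -, h⟩ | ⟨n, -, h⟩ | h)
  · exact Or.inl ⟨_, h⟩
  · exact Or.inl ⟨_, h⟩
  · exact Or.inr (Or.inl ⟨_, h⟩)
  · exact Or.inr (Or.inr (Or.inl ⟨n, h⟩))
  · exact Or.inl ⟨_, h⟩
  · exact Or.inr (Or.inr (Or.inr (Or.inl (Or.inl ⟨_, h⟩))))
  · exact Or.inr (Or.inr (Or.inr (Or.inl (Or.inr ⟨_, h⟩))))
  · exact Or.inr (Or.inr (Or.inr (Or.inr (Or.inl ⟨_, h⟩))))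
  · exact Or.inr (Or.inr (Or.inr (Or.inr (Or.inr h))))

theorem shape_primitive (C : Cases.{u}) (hD : IsThreeTranspositionGroup D)
    (hprim : IsPrimitiveUnderConj D) (hZ : Subgroup.center G = ⊥) (d : G) (hd : d ∈ D)
    (hw : ∃ b ∈ D, b ≠ d ∧ Commute d b)
    (h3 : pCore 3 ↥(Subgroup.closure {y : G | y ∈ D ∧ y ≠ d ∧ Commute d y}) ≤
      Subgroup.center ↥(Subgroup.closure {y : G | y ∈ D ∧ y ≠ d ∧ Commute d y}))
    (h2 : pCore 2 ↥(Subgroup.closure {y : G | y ∈ D ∧ y ≠ d ∧ Commute d y}) ≤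
      Subgroup.center ↥(Subgroup.closure {y : G | y ∈ D ∧ y ≠ d ∧ Commute d y})) :
    (∃ n, 7 ≤ n ∧ SymAt D n) ∨ ((∃ m, 3 ≤ m ∧ OPlusAt D m) ∨ ∃ m, 2 ≤ m ∧ OMinusAt D m) ∨
    (∃ n : ℕ, 5 ≤ n ∧ ∃ Q : QuadraticForm (ZMod 3) (Fin n → ZMod 3),
      (QuadraticMap.polarBilin Q).Nondegenerate ∧ ∃ c : ZMod 3, c ≠ 0 ∧
        ∃ e : G ≃* ↥(Cfsg.reflectionSubgroup (⇑Q) c) ⧸
            Subgroup.center ↥(Cfsg.reflectionSubgroup (⇑Q) c),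
          e '' D = (QuotientGroup.mk : ↥(Cfsg.reflectionSubgroup (⇑Q) c) → _) ''
            {g : ↥(Cfsg.reflectionSubgroup (⇑Q) c) |
              (g : ↥(Cfsg.isometryGroup (ZMod 3) (⇑Q))) ∈ Cfsg.reflectionsOfNorm (⇑Q) c}) ∨
    (IsOfTypeM22 G D ∨ IsOfTypeM23 G D ∨ IsOfTypeM24 G D) := by
  rcases primitive_classification C hD hprim hZ hd hw h3 h2 with h | h | h | h | h
  · exact Or.inl h
  · exact Or.inr (Or.inl (Or.inl h))
  · exact Or.inr (Or.inl (Or.inr h))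
  · exact Or.inr (Or.inr (Or.inl h))
  · exact Or.inr (Or.inr (Or.inr h))

end Cfsg.Agent.FischerThm
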